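import Groth.Agent.L26.KL.Finite
import Groth.Agent.L26.KL.Exists
import Groth.Agent.L26.Mumford.Jump

/-!
`K(L)` commutes with extension of the ground field.
-/

set_option autoImplicit false
set_option linter.style.haveILetI false
set_option linter.unusedSectionVars false
set_option backward.isDefEq.respectTransparency false

universe u

open CategoryTheory CategoryTheory.Limits MonoidalCategory CartesianMonoidalCategory AlgebraicGeometry
open scoped MonObj

noncomputable section

namespace Groth.Agent.L26.Degenerate

open Groth.Agent.KLLib Groth.Agent.KLFinite Groth.Agent.AbDualLib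
open Groth.Agent.AV.TateBaseChange (bc st)

attribute [local instance] Groth.L08.Cube.clMonoid

variable {k : Type u} [Field k] {A : Over (Spec (CommRingCat.of k))} [GrpObj A]

/-- The universal property of `K(L)` after a field extension. -/
theorem isKL_baseChange {Ω : Type u} [Field Ω] (q : Spec (CommRingCat.of Ω) ⟶ Spec (CommRingCat.of k))
    (L : A.left.Modules) (hL : PicF.IsInvertible L) {K : Over (Spec (CommRingCat.of k))} {i : K ⟶ A}
    (hK : ThetaGrp.IsKL A L i) :
    ThetaGrp.IsKL (Red.bc q A) ((Scheme.Modules.pullback (pullback.fst A.hom q)).obj L)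
      (show Red.bc q K ⟶ Red.bc q A from (Over.pullback q).map i) := by
  haveI := hK.closed
  let X := Red.bc q A
  let π : X.left ⟶ A.left := pullback.fst A.hom q
  let L' := (Scheme.Modules.pullback π).obj L
  have h1 : PicF.pullCl η[A].left (PicF.cl L) = oneCl _ := pullCl_unit_eq_one ⟨L, rfl, hL⟩
  have hL' : PicF.IsInvertible L' := PicLoc.isInvertible_pullback _ hL
  have h1' : PicF.pullCl η[X].left (PicF.cl L') = oneCl _ := pullCl_unit_eq_one ⟨L', rfl, hL'⟩
  have hd : ∀ {U : Over (Spec (CommRingCat.of Ω))} (φ : U ⟶ X),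
      PicF.pullCl φ.left (PicF.cl L') = PicF.pullCl (down q φ).left (PicF.cl L) := fun φ =>
    (PicLoc.pullCl_comp φ.left π (PicF.cl L)).symm
  refine ⟨?_, fun T z => ?_⟩
  · have sq : IsPullback (pullback.fst K.hom q) ((Over.pullback q).map i).left i.left (pullback.fst A.hom q) := by
      refine IsPullback.of_bot ?_ (pullback.lift_fst _ _ _).symm (IsPullback.of_hasPullback A.hom q)
      rw [show ((Over.pullback q).map i).left ≫ pullback.snd A.hom q = pullback.snd K.hom q from
        pullback.lift_snd _ _ _, Over.w i]
      exact IsPullback.of_hasPullback K.hom q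
    exact MorphismProperty.of_isPullback sq ‹IsClosedImmersion i.left›
  let Tk := Over.mk (T.hom ≫ q)
  have key : ThetaGrp.IsMumfordTriv X L' z ↔ ThetaGrp.IsMumfordTriv A L (down q z) := by
    rw [isMumfordTriv_iff L' hL' h1', isMumfordTriv_iff L hL h1]
    constructor
    · intro h
      let U := Over.mk ((snd A Tk).left ≫ T.hom)
      let a : U ⟶ X := Over.homMk (pullback.lift (fst A Tk).left ((snd A Tk).left ≫ T.hom)
        (by rw [Over.w, Category.assoc]; exact (Over.w (snd A Tk)).symm)) (pullback.lift_snd _ _ _)
      let b : U ⟶ T := Over.homMk (snd A Tk).left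
      let e : A ⊗ Tk ⟶ Over.mk (U.hom ≫ q) := Over.homMk (𝟙 _) (by
        rw [Category.id_comp]
        show ((snd A Tk).left ≫ T.hom) ≫ q = _
        rw [Category.assoc]; exact Over.w (snd A Tk))
      have h2 := congrArg (PicF.pullCl e.left) (h.at a b)
      rw [hd, hd, hd, down_mul, pullCl_mulCl, ← PicLoc.pullCl_comp, ← PicLoc.pullCl_comp,
        ← PicLoc.pullCl_comp, ← Over.comp_left, ← Over.comp_left, ← Over.comp_left, MonObj.comp_mul] at h2
      have ea : e ≫ down q a = fst A Tk := Over.OverMorphism.ext (by
        show 𝟙 _ ≫ (pullback.lift _ _ _ ≫ pullback.fst _ _) = _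
        rw [pullback.lift_fst]; exact Category.id_comp _)
      have eb : e ≫ down q (b ≫ z) = snd A Tk ≫ down q z := Over.OverMorphism.ext (by
        show 𝟙 _ ≫ (((snd A Tk).left ≫ z.left) ≫ pullback.fst _ _) = (snd A Tk).left ≫ z.left ≫ pullback.fst _ _
        rw [Category.id_comp, Category.assoc])
      rw [ea, eb] at h2
      exact h2
    · intro h
      let P := X ⊗ T
      let q' := down q (fst X T)
      let j' : Over.mk (P.hom ≫ q) ⟶ Tk := Over.homMk (snd X T).left (by
        show (snd X T).left ≫ T.hom ≫ q = P.hom ≫ q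
        rw [← Category.assoc, Over.w])
      have e : j' ≫ down q z = down q (snd X T ≫ z) := Over.OverMorphism.ext (Category.assoc _ _ _).symm
      have h2 := h.at q' j'
      rw [e, ← down_mul, ← hd, ← hd, ← hd] at h2
      exact h2
  refine key.trans ((hK.univ Tk (down q z)).trans ⟨fun ⟨y, hy⟩ => ?_, fun ⟨y, hy⟩ => ?_⟩)
  · refine ⟨Over.homMk (pullback.lift y.left T.hom (Over.w y)) (pullback.lift_snd _ _ _),
      Over.OverMorphism.ext (pullback.hom_ext ?_ ?_)⟩
    · show (pullback.lift y.left T.hom _ ≫ pullback.lift _ _ _) ≫ pullback.fst _ _ = _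
      rw [Category.assoc, pullback.lift_fst, pullback.lift_fst_assoc]
      exact congrArg CommaMorphism.left hy
    · exact (Over.w (_ ≫ (Over.pullback q).map i)).trans (Over.w z).symm
  · refine ⟨Over.homMk (y.left ≫ pullback.fst K.hom q) (by
      show (y.left ≫ pullback.fst K.hom q) ≫ K.hom = T.hom ≫ q
      rw [Category.assoc, pullback.condition, ← Category.assoc]
      exact congrArg (· ≫ q) (Over.w y)), Over.OverMorphism.ext ?_⟩
    show (y.left ≫ pullback.fst K.hom q) ≫ i.left = z.left ≫ pullback.fst A.hom q
    rw [← hy, Over.comp_left, Category.assoc, Category.assoc]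
    congr 1
    exact (pullback.lift_fst _ _ _).symm

end Groth.Agent.L26.Degenerate
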