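import Groth.Agent.L26.Degenerate.Component
import Groth.Agent.L26.Poincare.Reducibility
import Groth.Agent.L26.Mumford.Box
import Groth.Agent.L26.Mumford.Index
import Groth.Agent.L26.Mumford.CountMain
import Groth.Agent.L26.Mumford.RiemannRoch
import Groth.Agent.L26.Pic0.EulerIsogeny
import Groth.Agent.L26.Pic0.EulerHomog
import Groth.Agent.L26.AV.TorsPts

/-!
The Hilbert polynomial of a degenerate invertible module.
-/

set_option autoImplicit false
set_option linter.style.haveILetI false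
set_option linter.unusedSectionVars false
set_option maxSynthPendingDepth 3
set_option backward.isDefEq.respectTransparency false
set_option backward.isDefEq.respectTransparency.types false

universe u

open CategoryTheory CategoryTheory.Limits MonoidalCategory CartesianMonoidalCategory MonObj AlgebraicGeometry
open Polynomial

noncomputable section

namespace Groth.Agent.L26.Degenerate

open Groth.Agent.AV Groth.Agent.Poincare Orth Rosati DegreeForm
open Groth.L08.Cube (pc trK)

attribute [local instance] Groth.L08.Cube.clMonoid InterPic.picLaw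

variable {k : Type u} [Field k] {A : Over (Spec (CommRingCat.of k))} [GrpObj A] [IsCommMonObj A]
  [IsProper A.hom] [GeometricallyIntegral A.hom]

/-- The pairing of a pullback. -/
theorem bil_pullback {C : Over (Spec (CommRingCat.of k))} [GrpObj C] [IsCommMonObj C] [IsProper C.hom]
    [GeometricallyIntegral C.hom] (h : C ⟶ A) [IsMonHom h] (L : A.left.Modules) (hL : PicF.IsInvertible L)
    (hL' : PicF.IsInvertible ((Scheme.Modules.pullback h.left).obj L))
    {W : Over (Spec (CommRingCat.of k))} (x y : W ⟶ C) :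
    bil ((Scheme.Modules.pullback h.left).obj L) hL' x y = bil L hL (x ≫ h) (y ≫ h) := by
  have hF : ∀ φ : W ⟶ C, F ((Scheme.Modules.pullback h.left).obj L) hL' φ = F L hL (φ ≫ h) := fun φ =>
    ext_val (show PicF.pullCl φ.left (PicF.pullCl h.left (PicF.cl L)) = PicF.pullCl (φ.left ≫ h.left) (PicF.cl L) from
      (PicLoc.pullCl_comp _ _ _).symm)
  have e1 := F_mul ((Scheme.Modules.pullback h.left).obj L) hL' x y
  rw [hF, hF, hF, MonObj.mul_comp, F_mul L hL] at e1
  exact (add_left_cancel e1).symm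

/-- An ample module has nonzero Euler characteristic. -/
theorem euler_ne_zero_of_isAmple [IsAlgClosed k] {H : A.left.Modules} (hH : CohB1.IsAmple H) :
    @Curv2.euler k _ A.left ⟨A.hom⟩ H ≠ 0 := by
  haveI : Smooth A.hom := Groth.L08.Albanese.smooth_of_geometricallyIntegral A
  haveI : GeometricallyConnected A.hom := Isogeny.geometricallyConnected A.hom
  obtain ⟨g, -, hg⟩ := Groth.L08.GrpDim.exists_dim A
  obtain ⟨i, -, hi⟩ := L26.Mumford.exists_index hg H hH.1 (((Groth.L08.Cube.finite_fixed_of_isAmple H hH)).subset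
    fun x hx => (PicGrp.cl_eq_cl_iff _ _).2 hx)
  exact L26.Mumford.euler_ne_zero_of_conc hH.1 hi

/-- The points with given power are finitely many. -/
theorem finite_pow_eq {C : Over (Spec (CommRingCat.of k))} [GrpObj C] [IsCommMonObj C] [IsProper C.hom]
    [GeometricallyIntegral C.hom] {n : ℕ} (hn : 1 ≤ n) (q : 𝟙_ (Over (Spec (CommRingCat.of k))) ⟶ C) :
    {c : 𝟙_ (Over (Spec (CommRingCat.of k))) ⟶ C | c ^ n = q}.Finite := by
  have hfin : {c : 𝟙_ (Over (Spec (CommRingCat.of k))) ⟶ C | c ^ n = 1}.Finite :=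
    Set.finite_coe_iff.1 (TorsPts.finite_torsPts (A := C) hn)
  rcases Set.eq_empty_or_nonempty {c : 𝟙_ (Over (Spec (CommRingCat.of k))) ⟶ C | c ^ n = q} with h | ⟨c₀, hc₀⟩
  · rw [h]; exact Set.finite_empty
  refine (hfin.image (fun d => c₀ * d)).subset fun c hc => ⟨c₀⁻¹ * c, ?_, mul_inv_cancel_left _ _⟩
  show (c₀⁻¹ * c) ^ n = 1
  rw [mul_pow, inv_pow, hc₀, hc, inv_mul_cancel]

set_option maxHeartbeats 1600000 in
set_option synthInstance.maxHeartbeats 400000 in
/-- Mumford: the dimension of `K(L)` is the order of vanishing of the Hilbert polynomial at zero. -/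
theorem rootMultiplicity_closed [IsAlgClosed k] (L : A.left.Modules) (hL : PicF.IsInvertible L)
    {K : Over (Spec (CommRingCat.of k))} {iK : K ⟶ A} (hK : ThetaGrp.IsKL A L iK)
    {H : A.left.Modules} (hH : CohB1.IsAmple H) {Φ : ℚ[X]}
    (hΦ : ∀ n : ℕ, Φ.eval (n : ℚ) =
      (@Curv2.euler k _ A.left ⟨A.hom⟩ (CohB1.tensorMod L (CohB1.tensorPow H n)) : ℚ)) :
    topologicalKrullDim ↥K.left = ((Φ.rootMultiplicity 0 : ℕ) : WithBot ℕ∞) := by
  obtain ⟨B, gB, i, him, hic, hBp, hBg, hdim, hbil, I, hI, cls, hcls⟩ := exists_component L hL hK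
  letI := gB
  haveI := him
  haveI := hic
  haveI := hBp
  haveI := hBg
  haveI := hI
  haveI : IsCommMonObj B := isCommMonObj_of_isProper_of_geometricallyIntegral B
  obtain ⟨r, -, hr⟩ := Groth.L08.GrpDim.exists_dim B
  rw [← hdim, hr]
  suffices hmult : Φ.rootMultiplicity 0 = r by rw [hmult]
  obtain ⟨C, gC, j, hCp, hCg, hjm, hjc, hns, hnf, N, hN, hpair⟩ :=
    Reducibility.exists_complement_of_finite H i hH.1 (Split.finite_orth_points H hH i _)
  letI := gC
  haveI := hCp
  haveI := hCg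
  haveI := hjm
  haveI := hjc
  haveI : Mono j := Groth.L08.mono_of_closedImmersion j
  haveI : IsCommMonObj C := Reducibility.isCommMonObj_of_mono j
  haveI : Smooth B.hom := Groth.L08.Albanese.smooth_of_geometricallyIntegral B
  haveI : Smooth C.hom := Groth.L08.Albanese.smooth_of_geometricallyIntegral C
  haveI : GeometricallyConnected C.hom := Isogeny.geometricallyConnected C.hom
  obtain ⟨hBCp, hBCg⟩ := Groth.L08.Albanese.geometricallyIntegral_tensor B C
  haveI := hBCp
  haveI := hBCg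
  let n := (fst B C ≫ i) * (snd B C ≫ j)
  haveI : IsMonHom n := Reducibility.isMonHom_mul _ _
  obtain ⟨γ, M, hγm, hM, hnγ, hγn⟩ := Reducibility.exists_inverse n
  haveI := hγm
  -- the intersection of the two subgroups
  have hinter : ({c : 𝟙_ (Over (Spec (CommRingCat.of k))) ⟶ C | ∃ b, b ≫ i = c ≫ j}).Finite := by
    refine (finite_pow_eq hM 1).subset fun c ⟨b, hb⟩ => ?_
    have h1 : lift b⁻¹ c ≫ n = 1 := by
      rw [MonObj.comp_mul, lift_fst_assoc, lift_snd_assoc, GrpObj.inv_comp, hb, inv_mul_cancel]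
    have h2 : lift b⁻¹ c ^ M = 1 := by
      rw [← Category.comp_id (lift b⁻¹ c), ← MonObj.comp_pow, ← hnγ, ← Category.assoc, h1, MonObj.one_comp]
    have h3 := congrArg (· ≫ snd B C) h2
    simp only [MonObj.pow_comp, lift_snd, MonObj.one_comp] at h3
    exact h3
  have hmeet : ({c : 𝟙_ (Over (Spec (CommRingCat.of k))) ⟶ C | KLLib.Inv (PicF.cl L) (c ≫ j)}).Finite := by
    let S := {c : 𝟙_ (Over (Spec (CommRingCat.of k))) ⟶ C | KLLib.Inv (PicF.cl L) (c ≫ j)}
    haveI : Finite {c : 𝟙_ (Over (Spec (CommRingCat.of k))) ⟶ C | ∃ b, b ≫ i = c ≫ j} := hinter.to_subtype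
    classical
    let t : ↥S → I := fun c => cls ⟨c.1 ≫ j, c.2⟩
    rcases isEmpty_or_nonempty ↥S with hS | hS
    · exact Set.finite_coe_iff.1 (inferInstance : Finite ↥S)
    refine Set.finite_coe_iff.1 (Finite.of_injective (α := ↥S)
      (β := I × {c : 𝟙_ (Over (Spec (CommRingCat.of k))) ⟶ C | ∃ b, b ≫ i = c ≫ j})
      (fun c => (t c, ⟨((Function.invFun t (t c) : ↥S)).1⁻¹ * c.1, ?_⟩)) ?_)
    · obtain ⟨b, hb⟩ := hcls ⟨c.1 ≫ j, c.2⟩ ⟨(Function.invFun t (t c)).1 ≫ j, (Function.invFun t (t c)).2⟩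
        (Function.invFun_eq (f := t) ⟨c, rfl⟩).symm
      exact ⟨b, by rw [hb, MonObj.mul_comp, GrpObj.inv_comp]⟩
    · intro c c' h
      obtain ⟨h1, h2⟩ := Prod.mk.inj h
      have h2' := congrArg Subtype.val h2
      simp only at h2'
      rw [h1] at h2'
      exact Subtype.ext (mul_left_cancel h2')
  -- the two factors
  let j' := j ^ N
  haveI : IsMonHom j' := by
    rw [show j' = j ≫ (𝟙 A ^ N) by rw [MonObj.comp_pow, Category.comp_id]]
    haveI : IsMonHom (𝟙 A ^ N) := Isogeny.isMonHom_pow N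
    infer_instance
  let LY := (Scheme.Modules.pullback i.left).obj L
  let HY := (Scheme.Modules.pullback i.left).obj H
  let LZ := (Scheme.Modules.pullback j'.left).obj L
  let HZ := (Scheme.Modules.pullback j'.left).obj H
  have hLY : PicF.IsInvertible LY := PicLoc.isInvertible_pullback _ hL
  have hLZ : PicF.IsInvertible LZ := PicLoc.isInvertible_pullback _ hL
  haveI : IsAffineHom i.left := inferInstance
  have hHY : CohB1.IsAmple HY := Groth.L18.Ample.isAmple_pullback_of_isAffineHom _ hH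
  have hHZ : PicF.IsInvertible HZ := PicLoc.isInvertible_pullback _ hH.1
  -- the second factor is non-degenerate
  obtain ⟨z, hz⟩ : ∃ z, z = LZ := ⟨_, rfl⟩
  obtain ⟨gC', -, hgC⟩ := Groth.L08.GrpDim.exists_dim C
  obtain ⟨e, -, he⟩ := L26.Mumford.exists_index hgC LZ hLZ ((hmeet.preimage' (f := fun c => c ^ (N * (N * M)))
      (fun q _ => finite_pow_eq (Nat.mul_pos hN (Nat.mul_pos hN hM)) q)).subset fun c hc => by
    have hcl : pc LZ (trK c) = PicF.cl LZ := (PicGrp.cl_eq_cl_iff _ _).2 hc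
    have h0 : bil LZ hLZ (𝟙 C) (toUnit C ≫ c) = 0 := by
      have e1 := F_translate LZ hLZ c
      rw [show F LZ hLZ (𝟙 C * (toUnit C ≫ c)) = F LZ hLZ (𝟙 C) from
        ext_val (hcl.trans (val_F_id LZ hLZ).symm), left_eq_add] at e1
      exact e1
    rw [bil_pullback j' L hL, Category.id_comp, Category.assoc] at h0
    let x := c ≫ j'
    have h2 : N • bil L hL n (toUnit (B ⊗ C) ≫ x) = 0 := by
      rw [bil_mul_left, hbil, zero_add, ← bil_pow_left, ← MonObj.comp_pow]
      have h3 := congrArg (pb (snd B C)) h0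
      rwa [pb_bil, map_zero, ← Category.assoc (snd B C) (toUnit C), toUnit_unique (snd B C ≫ toUnit C) (toUnit _)] at h3
    have h4 := congrArg (pb γ) h2
    rw [map_nsmul, pb_bil, map_zero, hγn, ← Category.assoc, toUnit_unique (γ ≫ toUnit (B ⊗ C)) (toUnit A),
      bil_pow_left, ← mul_nsmul', ← bil_pow_right, ← MonObj.comp_pow] at h4
    show KLLib.Inv (PicF.cl L) ((c ^ (N * (N * M))) ≫ j)
    rw [inv_point_iff L hL, MonObj.pow_comp, pow_mul, ← MonObj.comp_pow]
    exact h4)
  have hχZ := L26.Mumford.euler_ne_zero_of_conc hLZ he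
  -- the isogeny
  let f := (fst B C ≫ i) * (snd B C ≫ j')
  haveI : IsMonHom f := Reducibility.isMonHom_mul _ _
  obtain ⟨hfN, _, hsN, _⟩ := Degree.isogeny_pow (A := C) hN
  haveI := hfN
  haveI := hsN
  haveI : IsMonHom (𝟙 C ^ N) := Isogeny.isMonHom_pow N
  have hf : B ◁ (𝟙 C ^ N) ≫ n = f := by
    rw [MonObj.comp_mul, whiskerLeft_fst_assoc, whiskerLeft_snd_assoc]
    simp only [f, j', MonObj.pow_comp, Category.id_comp, MonObj.comp_pow]
  haveI : IsFinite (B ◁ (𝟙 C ^ N)).left :=
    MorphismProperty.of_isPullback (Groth.L08.Cube.isPullback_whiskerLeft B (𝟙 C ^ N)).flip hfN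
  haveI : Surjective (B ◁ (𝟙 C ^ N)).left :=
    MorphismProperty.of_isPullback (Groth.L08.Cube.isPullback_whiskerLeft B (𝟙 C ^ N)).flip hsN
  haveI : IsFinite f.left := by rw [← hf, Over.comp_left]; infer_instance
  haveI : Surjective f.left := by rw [← hf, Over.comp_left]; infer_instance
  haveI : IsIntegral A.left := GeometricallyIntegral.isIntegral_of_subsingleton A.hom
  haveI : Flat f.left := Groth.L08.FlatHom.flat_of_surjective (B ⊗ C) A f
  haveI : IsLocallyNoetherian A.left := LocallyOfFiniteType.isLocallyNoetherian A.hom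
  haveI : LocallyOfFinitePresentation f.left := LocallyOfFinitePresentation.iff_locallyOfFiniteType.2 inferInstance
  let y₀ := η[A].left (IsLocalRing.closedPoint k)
  let d := f.left.finrank y₀
  have hd : ∀ y, f.left.finrank y = d := fun y =>
    (Scheme.Hom.isLocallyConstant_finrank f.left).apply_eq_of_preconnectedSpace y y₀
  have hd0 : 1 ≤ d := (Scheme.Hom.one_le_finrank_iff_surjective (f := f.left)).2 inferInstance y₀
  -- the classes split
  have hsplit : ∀ (P : A.left.Modules) (hP : PicF.IsInvertible P), bil P hP (fst B C ≫ i) (snd B C ≫ j') = 0 →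
      PicF.pullCl f.left (PicF.cl P) = PicF.pullCl (fst B C).left (PicF.pullCl i.left (PicF.cl P)) *
        PicF.pullCl (snd B C).left (PicF.pullCl j'.left (PicF.cl P)) := fun P hP h => by
    rw [← PicLoc.pullCl_comp, ← PicLoc.pullCl_comp]
    exact (bil_eq_zero_iff P hP _ _).1 h
  obtain ⟨Ψ, -, hΨ⟩ := L26.Mumford.exists_hilbert hgC hLZ hHZ
  let χH : ℚ := (@Curv2.euler k _ B.left ⟨B.hom⟩ HY : ℚ)
  have hχH : χH ≠ 0 := Int.cast_ne_zero.2 (euler_ne_zero_of_isAmple hHY)
  have hpoly : Polynomial.C (d : ℚ) * Φ = Polynomial.C χH * Polynomial.X ^ r * Ψ := by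
    refine Groth.L03.Euler.eq_of_eventually_eval_eq 1 fun m _ => ?_
    simp only [eval_mul, eval_C, eval_pow, eval_X]
    rw [hΦ, hΨ]
    letI : A.left.Over (Spec (CommRingCat.of k)) := ⟨A.hom⟩
    letI : B.left.Over (Spec (CommRingCat.of k)) := ⟨B.hom⟩
    letI : C.left.Over (Spec (CommRingCat.of k)) := ⟨C.hom⟩
    letI : (B ⊗ C).left.Over (Spec (CommRingCat.of k)) := ⟨(B ⊗ C).hom⟩
    let P := CohB1.tensorMod L (CohB1.tensorPow H m)
    let PY := CohB1.tensorMod LY (CohB1.tensorPow HY m)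
    let PZ := CohB1.tensorMod LZ (CohB1.tensorPow HZ m)
    have hPY : PicF.IsInvertible PY :=
      Groth.L18.GenLoc.isInvertible_tensor hLY (Groth.L18.Ample.isInvertible_tensorPow hHY.1 m)
    have hPZ : PicF.IsInvertible PZ :=
      Groth.L18.GenLoc.isInvertible_tensor hLZ (Groth.L18.Ample.isInvertible_tensorPow hHZ m)
    have hP : PicF.IsInvertible P :=
      Groth.L18.GenLoc.isInvertible_tensor hL (Groth.L18.Ample.isInvertible_tensorPow hH.1 m)
    obtain ⟨eP⟩ : Nonempty ((Scheme.Modules.pullback f.left).obj P ≅ L26.Mumford.box PY PZ) := by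
      refine (PicGrp.cl_eq_cl_iff _ _).1 ?_
      have hPcl : ∀ {X : Scheme.{u}} (U V : X.Modules),
          PicF.cl (CohB1.tensorMod U (CohB1.tensorPow V m)) = PicF.cl U * PicF.cl V ^ m := fun U V =>
        (congrArg (fun q => PicF.cl U * q) (Groth.L08.Cube.cl_tensorPow V m) :)
      let φ₀ : PicF.Cl A.left →* PicF.Cl (B ⊗ C).left :=
        { toFun := PicF.pullCl f.left, map_one' := Groth.L08.Cube.pullCl_one _,
          map_mul' := Groth.L08.Cube.pullCl_mul _ }
      let φ₁ : PicF.Cl B.left →* PicF.Cl (B ⊗ C).left :=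
        { toFun := PicF.pullCl (fst B C).left, map_one' := Groth.L08.Cube.pullCl_one _,
          map_mul' := Groth.L08.Cube.pullCl_mul _ }
      let φ₂ : PicF.Cl C.left →* PicF.Cl (B ⊗ C).left :=
        { toFun := PicF.pullCl (snd B C).left, map_one' := Groth.L08.Cube.pullCl_one _,
          map_mul' := Groth.L08.Cube.pullCl_mul _ }
      show φ₀ (PicF.cl P) = φ₁ (PicF.cl PY) * φ₂ (PicF.cl PZ)
      rw [hPcl, hPcl, hPcl, map_mul, map_mul, map_mul, map_pow, map_pow, map_pow,
        show φ₀ (PicF.cl L) = φ₁ (PicF.cl LY) * φ₂ (PicF.cl LZ) from hsplit L hL (hbil _ _ _),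
        show φ₀ (PicF.cl H) = φ₁ (PicF.cl HY) * φ₂ (PicF.cl HZ) from hsplit H hH.1 hpair, mul_pow,
        _root_.mul_mul_mul_comm]
    have h1 : Curv2.euler k B.left PY = (m : ℤ) ^ r * Curv2.euler k B.left HY := by
      rw [← Groth.Agent.Pic0.EulerHomog.euler_pow hr HY (CohB1.tensorPow HY m) hHY.1 m (Groth.L08.Cube.cl_tensorPow _ _)]
      refine Groth.Agent.Pic0.EulerHomog.euler_twist hr (CohB1.tensorPow HY m) LY PY
        (Groth.L18.Ample.isInvertible_tensorPow hHY.1 m) hLY (fun q _ => ?_)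
        ((congrArg (fun q => PicF.cl LY * q) rfl :).trans (mul_comm (PicF.cl LY) (PicF.cl (CohB1.tensorPow HY m))))
      have hz : ∀ q : ℕ, F LY hLY (𝟙 B ^ q) = q • F LY hLY (𝟙 B) := fun q => by
        induction q with
        | zero => rw [pow_zero, zero_nsmul, F_one]
        | succ q ih =>
          rw [pow_succ, F_mul, ih, bil_pullback i L hL, hbil, add_zero, succ_nsmul]
      have := congrArg (fun z => (Additive.toMul z).1) (hz q)
      simp only [val_nsmul, val_F_id] at this
      exact this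
    have h2 := Groth.Agent.Pic0.EulerPull.euler_isogeny f hd (Groth.L18.Ample.isCoh_of_isInvertible hP)
    rw [Groth.L03.Euler.euler_iso eP] at h2
    have h3 := L26.Mumford.euler_boxtimes (A := B) (B := C) (Groth.L18.Ample.isCoh_of_isInvertible hPY)
      (Groth.L18.Ample.isCoh_of_isInvertible hPZ)
    rw [h3, h1] at h2
    have h4 := congrArg (fun q : ℤ => (q : ℚ)) h2
    push_cast at h4
    rw [← h4]
    ring
  have hΨ0 : Ψ.eval 0 ≠ 0 := by
    have := hΨ 0
    rw [Nat.cast_zero] at this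
    rw [this, Int.cast_ne_zero]
    letI : C.left.Over (Spec (CommRingCat.of k)) := ⟨C.hom⟩
    obtain ⟨e0⟩ : Nonempty (CohB1.tensorMod LZ (CohB1.tensorPow HZ 0) ≅ LZ) := (PicGrp.cl_eq_cl_iff _ _).1
      ((congrArg (fun q => PicF.cl LZ * q) ((Groth.L08.Cube.cl_tensorPow HZ 0).trans (pow_zero _))).trans
        (_root_.mul_one _))
    rw [Groth.L03.Euler.euler_iso e0]
    exact hχZ
  have hΨne : Ψ ≠ 0 := fun h => hΨ0 (by rw [h, eval_zero])
  have hR : (Polynomial.C (d : ℚ) * Φ).rootMultiplicity 0 = r := by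
    have hX : ((Polynomial.X : ℚ[X]) ^ r).rootMultiplicity 0 = r := by
      simpa using Polynomial.rootMultiplicity_X_sub_C_pow (0 : ℚ) r
    have hne : Polynomial.C χH * Polynomial.X ^ r ≠ 0 := mul_ne_zero (C_ne_zero.2 hχH) (pow_ne_zero _ X_ne_zero)
    rw [hpoly, rootMultiplicity_mul (mul_ne_zero hne hΨne), rootMultiplicity_mul hne, rootMultiplicity_C, hX,
      rootMultiplicity_eq_zero hΨ0, zero_add, add_zero]
  have hd' : Polynomial.C (d : ℚ) ≠ 0 := C_ne_zero.2 (Nat.cast_ne_zero.2 (by omega))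
  have hΦ0 : Φ ≠ 0 := fun h => by
    have := hpoly
    rw [h, mul_zero] at this
    exact mul_ne_zero (mul_ne_zero (C_ne_zero.2 hχH) (pow_ne_zero _ X_ne_zero)) hΨne this.symm
  rwa [rootMultiplicity_mul (mul_ne_zero hd' hΦ0), rootMultiplicity_C, zero_add] at hR

end Groth.Agent.L26.Degenerate
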