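import Groth.Agent.L26.AV.Subgroup
import Groth.Agent.L26.KL.Basic
import Groth.Agent.L26.KL.Exists
import Groth.Agent.L26.Poincare.Rosati

/-!
The identity component of `K(L)` over an algebraically closed field.
-/

set_option autoImplicit false
set_option linter.style.haveILetI false
set_option linter.unusedSectionVars false
set_option backward.isDefEq.respectTransparency false

universe u

open CategoryTheory CategoryTheory.Limits MonoidalCategory CartesianMonoidalCategory MonObj AlgebraicGeometry

noncomputable section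

namespace Groth.Agent.L26.Degenerate

open Groth.Agent.AV Groth.Agent.Poincare Orth Rosati DegreeForm Groth.Agent.KLLib

attribute [local instance] Groth.L08.Cube.clMonoid InterPic.picLaw

variable {k : Type u} [Field k] {A : Over (Spec (CommRingCat.of k))} [GrpObj A] [IsCommMonObj A]
  [IsProper A.hom] [GeometricallyIntegral A.hom] (L : A.left.Modules) (hL : PicF.IsInvertible L)

/-- The pairing vanishes exactly when the classes multiply. -/
theorem bil_eq_zero_iff {W : Over (Spec (CommRingCat.of k))} (x y : W ⟶ A) :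
    bil L hL x y = 0 ↔ PicF.pullCl (x * y).left (PicF.cl L) =
      PicGrp.mulCl (PicF.pullCl x.left (PicF.cl L)) (PicF.pullCl y.left (PicF.cl L)) := by
  have h := F_mul L hL x y
  constructor
  · intro h0
    rw [h0, add_zero] at h
    exact congrArg (fun z => (Additive.toMul z).1) h
  · intro h0
    have h' : F L hL (x * y) = F L hL x + F L hL y := ext_val h0
    rw [h', left_eq_add] at h
    exact h

variable {K : Over (Spec (CommRingCat.of k))} {ι' : K ⟶ A} (hK : ThetaGrp.IsKL A L ι')

include hL in
theorem inv_iff {T : Over (Spec (CommRingCat.of k))} (z : T ⟶ A) :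
    KLLib.Inv (PicF.cl L) z ↔ bil L hL (fst A T) (snd A T ≫ z) = 0 :=
  (bil_eq_zero_iff L hL _ _).symm

include hL in
/-- Translation invariance of a point. -/
theorem inv_point_iff (x : 𝟙_ (Over (Spec (CommRingCat.of k))) ⟶ A) :
    KLLib.Inv (PicF.cl L) x ↔ bil L hL (𝟙 A) (toUnit A ≫ x) = 0 := by
  rw [inv_iff L hL]
  constructor
  · intro h
    have h' := congrArg (pb (lift (𝟙 A) (toUnit A))) h
    rwa [pb_bil, map_zero, lift_fst, lift_snd_assoc] at h'
  · intro h
    have h' := congrArg (pb (fst A (𝟙_ (Over (Spec (CommRingCat.of k)))))) h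
    rwa [pb_bil, map_zero, Category.comp_id, ← Category.assoc, toUnit_unique (fst _ _ ≫ toUnit A) (snd _ _)] at h'

include hL hK in
theorem bil_factor {T : Over (Spec (CommRingCat.of k))} (y : T ⟶ K) (a : T ⟶ A) :
    bil L hL (y ≫ ι') a = 0 := by
  have h1 : PicF.pullCl η[A].left (PicF.cl L) = Groth.Agent.AbDualLib.oneCl _ := pullCl_unit_eq_one ⟨L, rfl, hL⟩
  have hi : KLLib.Inv (PicF.cl L) (y ≫ ι') := (factors_iff L hL h1 hK).1 ⟨y, rfl⟩
  rw [Adjoint.bil_comm, bil_eq_zero_iff]
  exact hi.at_self a

include hL hK in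
set_option maxHeartbeats 800000 in
/-- The identity component of `K(L)`, with finitely many cosets. -/
theorem exists_component [IsAlgClosed k] :
    ∃ (B : Over (Spec (CommRingCat.of k))) (_ : GrpObj B) (i : B ⟶ A), IsMonHom i ∧ IsClosedImmersion i.left ∧
      IsProper B.hom ∧ GeometricallyIntegral B.hom ∧ topologicalKrullDim B.left = topologicalKrullDim K.left ∧
      (∀ (T : Over (Spec (CommRingCat.of k))) (b : T ⟶ B) (a : T ⟶ A), bil L hL (b ≫ i) a = 0) ∧
      ∃ (I : Type u) (_ : Finite I)
        (cls : {x : 𝟙_ (Over (Spec (CommRingCat.of k))) ⟶ A // KLLib.Inv (PicF.cl L) x} → I),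
        ∀ x y, cls x = cls y → ∃ b : 𝟙_ (Over (Spec (CommRingCat.of k))) ⟶ B, b ≫ i = y.1⁻¹ * x.1 := by
  have h1 : PicF.pullCl η[A].left (PicF.cl L) = Groth.Agent.AbDualLib.oneCl _ := pullCl_unit_eq_one ⟨L, rfl, hL⟩
  have hc : PicF.IsInvertibleCl (PicF.cl L) := ⟨L, rfl, hL⟩
  have hfac := fun {T : Over (Spec (CommRingCat.of k))} (z : T ⟶ A) => factors_iff (T := T) (z := z) L hL h1 hK
  haveI := hK.closed
  haveI : Mono ι' := Groth.L08.mono_of_closedImmersion ι'
  obtain ⟨gK, hιm⟩ := Groth.L08.exists_grpObj_of_mono ι'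
    ((hfac _).2 (show KLLib.Inv (PicF.cl L) η[A] from by
      rw [show η[A] = (1 : 𝟙_ (Over (Spec (CommRingCat.of k))) ⟶ A) from MonObj.one_eq_one A]
      exact inv_one h1))
    ((hfac _).2 (((hfac (fst K K ≫ ι')).1 ⟨fst K K, rfl⟩).mul ((hfac (snd K K ≫ ι')).1 ⟨snd K K, rfl⟩)))
    ((hfac _).2 (((hfac ι').1 ⟨𝟙 K, Category.id_comp _⟩).inv hc h1))
  letI := gK
  haveI := hιm
  haveI : IsProper K.hom := by rw [← Over.w ι']; infer_instance
  obtain ⟨B, gB, j, hj, hjc, hBp, hBg, hjr⟩ := Groth.Agent.AV.Subgroup.exists_redComponent K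
  letI := gB
  haveI := hj
  haveI := hjc
  haveI : IsLocallyNoetherian K.left := LocallyOfFiniteType.isLocallyNoetherian K.hom
  haveI : CompactSpace K.left := QuasiCompact.compactSpace_of_compactSpace K.hom
  haveI : AlgebraicGeometry.IsNoetherian K.left := {}
  haveI : Finite (irreducibleComponents K.left) :=
    (TopologicalSpace.NoetherianSpace.finite_irreducibleComponents (α := K.left)).to_subtype
  refine ⟨B, gB, j ≫ ι', inferInstance, inferInstanceAs (IsClosedImmersion (j.left ≫ ι'.left)), hBp, hBg, ?_,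
    fun T b a => ?_, irreducibleComponents K.left, inferInstance, fun x =>
      ⟨connectedComponent (((hfac x.1).2 x.2).choose.left (IsLocalRing.closedPoint k)),
        Groth.L25.Component.connectedComponent_mem K _⟩, fun x y hxy => ?_⟩
  · obtain ⟨n, hall, hn⟩ := Groth.L08.GrpDim.exists_dim K
    have hC := Groth.L25.Component.connectedComponent_mem K (Groth.L25.Component.one K)
    obtain ⟨ξ, hξ⟩ := QuasiSober.sober hC.1 isClosed_connectedComponent
    rw [hn, ← hall ξ fun w hw => ?_, hξ]
    · rw [← hjr]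
      exact j.left.isClosedEmbedding.isEmbedding.toHomeomorph.isHomeomorph.topologicalKrullDim_eq
    · have hle : connectedComponent (Groth.L25.Component.one K) ≤ closure ({w} : Set K.left) := by
        rw [← hξ]
        exact closure_minimal (Set.singleton_subset_iff.2 hw.mem_closure) isClosed_closure
      have heq := le_antisymm hle (hC.2 isIrreducible_singleton.closure hle)
      exact hw.antisymm (specializes_iff_mem_closure.2 (hξ.symm ▸ heq ▸ subset_closure (Set.mem_singleton w))) |>.eq
  · rw [← Category.assoc]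
    exact bil_factor L hL hK (b ≫ j) a
  · let P := ((hfac x.1).2 x.2).choose
    let Q := ((hfac y.1).2 y.2).choose
    have hP : P ≫ ι' = x.1 := ((hfac x.1).2 x.2).choose_spec
    have hQ : Q ≫ ι' = y.1 := ((hfac y.1).2 y.2).choose_spec
    let p : (𝟙_ (Over (Spec (CommRingCat.of k)))).left := IsLocalRing.closedPoint k
    let f : K ⟶ K := (toUnit K ≫ Q⁻¹) * 𝟙 K
    have hf : ∀ R : 𝟙_ (Over (Spec (CommRingCat.of k))) ⟶ K, R ≫ f = Q⁻¹ * R := fun R => by
      rw [MonObj.comp_mul, ← Category.assoc, toUnit_unique (R ≫ toUnit K) (𝟙 _), Category.id_comp, Category.comp_id]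
    have hmem : (Q⁻¹ * P).left p ∈ Set.range j.left := by
      rw [hjr, ← hf P, Over.comp_left, Scheme.Hom.comp_apply]
      have hP' : P.left p ∈ connectedComponent (Q.left p) := by
        rw [show connectedComponent (Q.left p) = connectedComponent (P.left p) from
          (congrArg Subtype.val hxy).symm]
        exact mem_connectedComponent
      have h2 : f.left (Q.left p) = Groth.L25.Component.one K := by
        rw [← Scheme.Hom.comp_apply, ← Over.comp_left, hf Q, inv_mul_cancel, Hom.one_def]
        exact congrArg η[K].left (Subsingleton.elim (α := PrimeSpectrum k) _ _)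
      rw [← h2]
      exact f.left.continuous.mapsTo_connectedComponent _ hP'
    haveI : IsReduced (𝟙_ (Over (Spec (CommRingCat.of k)))).left :=
      inferInstanceAs (IsReduced (Spec (CommRingCat.of k)))
    haveI : Surjective (pullback.snd j.left (Q⁻¹ * P).left) := ⟨fun y => by
      obtain ⟨z, hz⟩ := hmem
      rw [show y = p from Subsingleton.elim (α := PrimeSpectrum k) _ _]
      obtain ⟨w, -, hw⟩ := Scheme.Pullback.exists_preimage_pullback z p hz
      exact ⟨w, hw⟩⟩
    obtain ⟨c₀, hc₀⟩ := Groth.L25.GeomRed.exists_factor (pullback.snd j.left (Q⁻¹ * P).left) (𝟙 _)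
    let b : 𝟙_ (Over (Spec (CommRingCat.of k))) ⟶ B := Over.homMk (c₀ ≫ pullback.fst j.left (Q⁻¹ * P).left) (by
      rw [← Over.w j, Category.assoc, pullback.condition_assoc, Over.w (Q⁻¹ * P)]
      rw [reassoc_of% hc₀])
    have hb : b ≫ j = Q⁻¹ * P := by
      refine Over.OverMorphism.ext ?_
      show (c₀ ≫ pullback.fst _ _) ≫ j.left = _
      rw [Category.assoc, pullback.condition, reassoc_of% hc₀]
    exact ⟨b, by rw [reassoc_of% hb, MonObj.mul_comp, GrpObj.inv_comp, hP, hQ]⟩

end Groth.Agent.L26.Degenerate
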